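import Groth.Agent.FiberUnique.Basic

set_option autoImplicit false

open CategoryTheory CategoryTheory.Limits CategoryTheory.PreGaloisCategory

namespace Groth.Agent.FiberUnique

universe v u

variable {C : Type u} [Category.{v} C] [GaloisCategory C] {D : Type u} [Category.{v} D]
  [GaloisCategory D] (H : C ⥤ D) [PreservesFiniteLimits H] [PreservesFiniteColimits H]

/-- the composite of an exact functor with a fibre functor is a fibre functor -/
lemma fiberFunctor_comp (G : D ⥤ FintypeCat.{v}) [FiberFunctor G] : FiberFunctor (H ⋙ G) := by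
  haveI : H.PreservesEpimorphisms := inferInstance
  haveI : PreservesFiniteLimits (H ⋙ G) := comp_preservesFiniteLimits H G
  haveI : PreservesFiniteCoproducts (H ⋙ G) := ⟨fun n => inferInstance⟩
  haveI : (H ⋙ G).PreservesEpimorphisms := inferInstance
  haveI := reflectsIso (GaloisCategory.getFiberFunctor C) (H ⋙ G)
  exact
    { preservesQuotientsByFiniteGroups := fun K _ _ => by
        obtain ⟨K', hg, hf, ⟨e⟩⟩ := Finite.exists_type_univ_nonempty_mulEquiv.{v, 0} K
        haveI : Fintype K' := Fintype.ofFinite K'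
        haveI : FinCategory (SingleObj K') := inferInstance
        haveI : PreservesColimitsOfShape (SingleObj K) H :=
          preservesColimitsOfShape_of_equiv e.toSingleObjEquiv.symm H
        exact comp_preservesColimitsOfShape H G }

theorem full_faithful_iff :
    (H.Full ∧ H.Faithful) ↔
      ∀ X : C, PreGaloisCategory.IsConnected X → PreGaloisCategory.IsConnected (H.obj X) := by
  classical
  let G : D ⥤ FintypeCat.{v} := GaloisCategory.getFiberFunctor D
  haveI := fiberFunctor_comp H G
  let F : C ⥤ FintypeCat.{v} := H ⋙ G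
  haveI : FiberFunctor F := fiberFunctor_comp H G
  haveI hfaith : H.Faithful := Functor.Faithful.of_comp H G
  constructor
  · rintro ⟨_, -⟩ X hX
    refine ⟨fun hi => ?_, fun Y i _ hY => ?_⟩
    · obtain ⟨x⟩ := nonempty_fiber_of_isConnected F X
      exact not_initial_of_inhabited G x hi
    · obtain ⟨Z, u, ⟨hc⟩⟩ := PreGaloisCategory.monoInducesIsoOnDirectSummand i
      let two : C := (⊤_ C) ⨿ (⊤_ C)
      let pX : X ⟶ ⊤_ C := terminal.from X
      let a : H.obj (⊤_ C) ⟶ H.obj two := H.map coprod.inl
      let b : H.obj (⊤_ C) ⟶ H.obj two := H.map coprod.inr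
      obtain ⟨χ, hχ1, hχ2⟩ := BinaryCofan.IsColimit.desc' hc (i ≫ H.map pX ≫ a) (u ≫ H.map pX ≫ b)
      change i ≫ χ = _ at hχ1
      change u ≫ χ = _ at hχ2
      obtain ⟨g, rfl⟩ := H.map_surjective χ
      -- `g` is one of the two constant maps, as `X` is connected and `two` has no automorphisms
      let P := F ⋙ FintypeCat.incl
      have hP : Nonempty (IsColimit (BinaryCofan.mk (P.map (coprod.inl : ⊤_ C ⟶ two))
          (P.map (coprod.inr : ⊤_ C ⟶ two)))) :=
        ⟨mapIsColimitOfPreservesOfIsColimit P _ _ (coprodIsCoprod _ _)⟩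
      rw [Types.binaryCofan_isColimit_iff] at hP
      obtain ⟨y⟩ : Nonempty (G.obj Y) := (not_initial_iff_fiber_nonempty G Y).1 hY
      have hg : g = pX ≫ coprod.inl := by
        apply evaluation_injective_of_isConnected F X two (G.map i y)
        show G.map (H.map g) (G.map i y) = G.map (H.map (pX ≫ coprod.inl)) (G.map i y)
        rw [← FintypeCat.comp_apply, ← FintypeCat.comp_apply, ← G.map_comp, ← G.map_comp, hχ1,
          H.map_comp]
      have hempty : IsEmpty (G.obj Z) := ⟨fun z => by
        have h1 : G.map (u ≫ H.map pX ≫ a) z = G.map (u ≫ H.map pX ≫ b) z := by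
          rw [← hχ2, hg, H.map_comp]
        simp only [G.map_comp, FintypeCat.comp_apply] at h1
        exact Set.disjoint_iff.1 hP.2.2.disjoint
          ⟨⟨G.map (H.map pX) (G.map u z), rfl⟩, ⟨G.map (H.map pX) (G.map u z), h1.symm⟩⟩⟩
      obtain ⟨hZ⟩ := (initial_iff_fiber_empty G Z).2 hempty
      refine ⟨(BinaryCofan.IsColimit.desc' hc (𝟙 Y) (hZ.to Y)).1,
        (BinaryCofan.IsColimit.desc' hc (𝟙 Y) (hZ.to Y)).2.1, ?_⟩
      refine BinaryCofan.IsColimit.hom_ext hc ?_ (hZ.hom_ext _ _)
      show i ≫ _ ≫ i = i ≫ 𝟙 _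
      erw [← Category.assoc, (BinaryCofan.IsColimit.desc' hc (𝟙 Y) (hZ.to Y)).2.1]
      simp
  · intro hconn
    refine ⟨⟨fun {X Y} h => ?_⟩, hfaith⟩
    have conn : ∀ (A : C) [IsConnected A] (k : H.obj A ⟶ H.obj Y), ∃ g : A ⟶ Y, H.map g = k := by
      intro A _ k
      haveI := hconn A inferInstance
      let cmp := PreservesLimitPair.iso H A Y
      let γ : H.obj A ⟶ H.obj (A ⨯ Y) := prod.lift (𝟙 _) k ≫ cmp.inv
      have hc1 : cmp.inv ≫ H.map prod.fst = prod.fst := by
        rw [Iso.inv_comp_eq, PreservesLimitPair.iso_hom, prodComparison_fst]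
      have hc2 : cmp.inv ≫ H.map prod.snd = prod.snd := by
        rw [Iso.inv_comp_eq, PreservesLimitPair.iso_hom, prodComparison_snd]
      have hγ1 : γ ≫ H.map prod.fst = 𝟙 _ := (Category.assoc _ _ _).trans ((congrArg _ hc1).trans (prod.lift_fst _ _))
      have hγ2 : γ ≫ H.map prod.snd = k := (Category.assoc _ _ _).trans ((congrArg _ hc2).trans (prod.lift_snd _ _))
      haveI : Mono γ := mono_of_mono_fac hγ1
      obtain ⟨a⟩ := nonempty_fiber_of_isConnected F A
      obtain ⟨Z, j, z, hz, hZ, hj⟩ := fiber_in_connected_component F (A ⨯ Y) (G.map γ a)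
      haveI := hconn Z hZ
      obtain ⟨e, he⟩ := connected_component_unique G (a : G.obj (H.obj A)) (z : G.obj (H.obj Z))
        γ (H.map j) hz.symm
      have hp : Function.Bijective (F.map (j ≫ prod.fst)) := by
        haveI := hZ
        haveI : Nonempty (F.obj Z) := ⟨z⟩
        refine (surjective_of_nonempty_fiber_of_isConnected F (j ≫ prod.fst)).bijective_of_nat_card_le
          (le_of_eq (card_fiber_eq_of_iso G e).symm)
      haveI : IsIso (F.map (j ≫ prod.fst)) := (ConcreteCategory.isIso_iff_bijective _).2 hp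
      haveI : IsIso (j ≫ prod.fst) := isIso_of_reflects_iso _ F
      refine ⟨CategoryTheory.inv (j ≫ prod.fst) ≫ j ≫ prod.snd, ?_⟩
      apply evaluation_injective_of_isConnected G (H.obj A) (H.obj Y) (a : G.obj (H.obj A))
      have ha : G.map (H.map (j ≫ prod.fst)) z = a := by
        rw [H.map_comp, G.map_comp, FintypeCat.comp_apply]
        erw [hz]
        rw [← FintypeCat.comp_apply, ← G.map_comp, hγ1]
        simp
      beta_reduce
      conv_lhs => rw [← ha]
      rw [← FintypeCat.comp_apply, ← G.map_comp, ← H.map_comp, IsIso.hom_inv_id_assoc, H.map_comp,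
        G.map_comp, FintypeCat.comp_apply]
      erw [hz]
      rw [← FintypeCat.comp_apply, ← G.map_comp, hγ2]
    obtain ⟨ι, f, c, hl, hf, hι⟩ := has_decomp_connected_components X
    choose g hg using fun i => (haveI := hf i; conn (f i) (H.map (c i) ≫ h))
    refine ⟨Cofan.IsColimit.desc hl g, ?_⟩
    refine (isColimitOfPreserves H hl).hom_ext fun ⟨i⟩ => ?_
    show H.map (c i) ≫ _ = H.map (c i) ≫ h
    rw [← H.map_comp]
    erw [Cofan.IsColimit.fac hl g i]
    exact hg i

end Groth.Agent.FiberUnique
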